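import Mathlib
import Cfsg.Agent.H514.DP.Core

/-!
# Long cycles as products of two `p`-elements (helper281, for S2454)
-/

set_option autoImplicit false
set_option linter.unusedSectionVars false

namespace Cfsg.Agent.H281.PWA

open Equiv Equiv.Perm List Cfsg.Agent.H514.DP

variable {α : Type*} [Fintype α] [DecidableEq α]

theorem formPerm_append (a : α) (m : List α) : ∀ l : List α,
    (l ++ a :: m).formPerm = (l ++ [a]).formPerm * (a :: m).formPerm
  | [] => by simp
  | [b] => by simp [formPerm_cons_cons]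
  | b :: c :: l => by
    have h := formPerm_append a m (c :: l)
    simp only [List.cons_append] at h ⊢
    rw [formPerm_cons_cons, formPerm_cons_cons, h, mul_assoc]

theorem conj_formPerm (f : Perm α) : ∀ l : List α, f * l.formPerm * f⁻¹ = (l.map f).formPerm
  | [] => by simp
  | [b] => by simp
  | b :: c :: l => by
    have h := conj_formPerm f (c :: l)
    simp only [List.map_cons] at h ⊢
    rw [formPerm_cons_cons, formPerm_cons_cons, ← h]
    have h1 : f * swap b c * f⁻¹ = swap (f b) (f c) := (Equiv.swap_apply_apply f b c).symm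
    rw [← h1]
    group

theorem sign_formPerm : ∀ (l : List α), l.Nodup → sign l.formPerm = (-1) ^ (l.length - 1)
  | [], _ => by simp
  | [b], _ => by simp
  | b :: c :: l, h => by
    have h1 := sign_formPerm (c :: l) (List.nodup_cons.1 h).2
    have h2 : b ≠ c := by
      rintro rfl
      exact (List.nodup_cons.1 h).1 (by simp)
    rw [formPerm_cons_cons, Equiv.Perm.sign_mul, sign_swap h2, h1]
    simp [pow_succ]

/-- `X Y` is a cycle of length `N`, the last point is fixed by `Y`. -/
def T (α : Type*) [Fintype α] [DecidableEq α] (p N : ℕ) (s t : ℤˣ) : Prop :=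
  ∃ (l : List α) (a : α) (X Y : Perm α), (l ++ [a]).Nodup ∧ (l ++ [a]).length = N ∧
    X * Y = (l ++ [a]).formPerm ∧ IsPE p X ∧ IsPE p Y ∧ (∀ x, x ∉ l ++ [a] → X x = x ∧ Y x = x) ∧
    Y a = a ∧ sign X = s ∧ sign Y = t

theorem T.swap {p : ℕ} {l : List α} {a : α} {X Y : Perm α} (h1 : (l ++ [a]).Nodup)
    (h2 : X * Y = (l ++ [a]).formPerm) (hX : IsPE p X) (hY : IsPE p Y)
    (h : ∀ x, x ∉ l ++ [a] → X x = x ∧ Y x = x) (ha : X a = a) :
    T α p (l ++ [a]).length (sign Y) (sign X) := by
  have ha' : X⁻¹ a = a := by rw [Equiv.Perm.inv_eq_iff_eq, ha]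
  have hmap : (l ++ [a]).map (X⁻¹ : Perm α) = l.map (X⁻¹ : Perm α) ++ [a] := by
    rw [List.map_append, List.map_singleton, ha']
  refine ⟨l.map (X⁻¹ : Perm α), a, Y, X, ?_, ?_, ?_, hY, hX, ?_, ha, rfl, rfl⟩
  · rw [← hmap]
    exact h1.map (X⁻¹ : Perm α).injective
  · rw [← hmap, List.length_map]
  · rw [← hmap, ← conj_formPerm, ← h2]
    group
  · intro x hx
    rw [← hmap] at hx
    have h3 : X x ∉ l ++ [a] := by
      intro h4
      apply hx
      exact List.mem_map.2 ⟨X x, h4, by simp⟩
    have h5 : X x = x := by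
      have := (h _ h3).1
      exact X.injective this
    rw [h5] at h3
    exact ⟨(h x h3).2, h5⟩

theorem exists_fresh (L : List α) (hL : L.Nodup) {k : ℕ} (hk : L.length + k ≤ Fintype.card α) :
    ∃ m : List α, m.Nodup ∧ m.length = k ∧ ∀ x ∈ m, x ∉ L := by
  have h1 : k ≤ (L.toFinset)ᶜ.card := by
    rw [Finset.card_compl, List.toFinset_card_of_nodup hL]
    omega
  obtain ⟨t, ht, hc⟩ := Finset.exists_subset_card_eq h1
  refine ⟨t.toList, t.nodup_toList, by rw [Finset.length_toList, hc], ?_⟩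
  intro x hx hxL
  have := ht (Finset.mem_toList.1 hx)
  rw [Finset.mem_compl, List.mem_toFinset] at this
  exact this hxL

theorem T.step {p N : ℕ} (hp : 2 ≤ p) {s t : ℤˣ} (h : T α p N s t)
    (hN : N + (p - 1) ≤ Fintype.card α) : T α p (N + (p - 1)) (t * (-1) ^ (p - 1)) s := by
  obtain ⟨l, a, X, Y, hnd, hlen, hXY, hX, hY, hout, ha, rfl, rfl⟩ := h
  obtain ⟨m, hm, hml, hmL⟩ := exists_fresh (l ++ [a]) hnd (k := p - 1) (by rw [hlen]; exact hN)
  have hmne : m ≠ [] := by
    rintro rfl
    simp at hml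
    omega
  obtain ⟨m', b, rfl⟩ : ∃ m' b, m = m' ++ [b] :=
    ⟨m.dropLast, m.getLast hmne, (List.dropLast_append_getLast hmne).symm⟩
  have ham : (a :: (m' ++ [b])).Nodup := by
    rw [List.nodup_cons]
    refine ⟨fun h1 => hmL a h1 (by simp), hm⟩
  set w := (a :: (m' ++ [b])).formPerm with hw
  have hwp : IsPE p w := by
    refine ⟨1, ?_⟩
    have h1 := formPerm_pow_length_eq_one_of_nodup _ ham
    rw [pow_one]
    have h2 : (a :: (m' ++ [b])).length = p := by
      rw [List.length_cons, hml]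
      omega
    rw [h2] at h1
    exact h1
  have hYm : ∀ x ∈ a :: (m' ++ [b]), Y x = x := by
    intro x hx
    rcases List.mem_cons.1 hx with rfl | hx
    · exact ha
    · exact (hout x (hmL x hx)).2
  have hdis : Perm.Disjoint Y w := by
    intro x
    by_cases hx : x ∈ a :: (m' ++ [b])
    · exact Or.inl (hYm x hx)
    · exact Or.inr (formPerm_apply_of_notMem hx)
  have hYw : IsPE p (Y * w) := hY.mul hwp hdis.commute
  have hnd' : (l ++ a :: m' ++ [b]).Nodup := by
    have h1 : l ++ a :: m' ++ [b] = (l ++ [a]) ++ (m' ++ [b]) := by simp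
    rw [h1]
    exact List.nodup_append'.2 ⟨hnd, hm, fun x hx hx' => hmL x hx' hx⟩
  have hprod : X * (Y * w) = (l ++ a :: m' ++ [b]).formPerm := by
    have h1 : l ++ a :: m' ++ [b] = l ++ a :: (m' ++ [b]) := by simp
    rw [h1, formPerm_append, ← mul_assoc, hXY]
  have hb : b ∉ l ++ [a] := hmL b (by simp)
  have hlen' : (l ++ a :: m' ++ [b]).length = N + (p - 1) := by
    rw [← hlen, ← hml]
    simp
    omega
  have hsw : sign w = (-1) ^ (p - 1) := by
    rw [hw, sign_formPerm _ ham, List.length_cons, hml]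
    rfl
  have key := T.swap hnd' hprod hX hYw (fun x hx => by
    have h1 : x ∉ l ++ [a] := fun h2 => hx (by
      rcases List.mem_append.1 h2 with h3 | h3
      · simp [h3]
      · simp at h3
        simp [h3])
    have h2 : x ∉ a :: (m' ++ [b]) := fun h2 => hx (by
      rcases List.mem_cons.1 h2 with h3 | h3
      · simp [h3]
      · simp at h3
        rcases h3 with h3 | h3
        · simp [h3]
        · simp [h3])
    refine ⟨(hout x h1).1, ?_⟩
    rw [Perm.mul_apply, formPerm_apply_of_notMem h2]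
    exact (hout x h1).2) (hout b hb).1
  rw [hlen', Equiv.Perm.sign_mul, hsw] at key
  exact key

/-- one cycle of length `p` -/
theorem T.start {p : ℕ} (hp : 1 ≤ p) (hc : p ≤ Fintype.card α) : T α p p ((-1) ^ (p - 1)) 1 := by
  obtain ⟨m, hm, hml, -⟩ := exists_fresh ([] : List α) List.nodup_nil (k := p) (by simpa using hc)
  have hmne : m ≠ [] := by
    rintro rfl
    simp at hml
    omega
  obtain ⟨m', b, rfl⟩ : ∃ m' b, m = m' ++ [b] :=
    ⟨m.dropLast, m.getLast hmne, (List.dropLast_append_getLast hmne).symm⟩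
  refine ⟨m', b, (m' ++ [b]).formPerm, 1, hm, hml, by simp, ⟨1, ?_⟩, isPE_one, ?_, rfl, ?_, by simp⟩
  · rw [pow_one]
    have h1 := formPerm_pow_length_eq_one_of_nodup _ hm
    rw [hml] at h1
    exact h1
  · intro x hx
    exact ⟨formPerm_apply_of_notMem hx, rfl⟩
  · rw [sign_formPerm _ hm, hml]

end Cfsg.Agent.H281.PWA
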